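import Mathlib
import Groth.Agent.H9PB.FundLemmas
import Groth.Agent.H23.GysinPb

/-!
Multiplicativity of lengths at maximal points of a flat base change.
-/

set_option autoImplicit false
set_option backward.isDefEq.respectTransparency false
set_option backward.isDefEq.respectTransparency.types false

universe u

open AlgebraicGeometry CategoryTheory CategoryTheory.Limits IsLocalRing

namespace Groth.Agent.H4FB

theorem length_quotient_eq {R S : Type u} [CommRing R] [CommRing S] (f : R →+* S)
    (hf : Function.Surjective f) {I : Ideal R} (hI : RingHom.ker f = I) :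
    Module.length R (R ⧸ I) = Module.length S S := by
  subst hI
  let := f.toAlgebra
  have hker : RingHom.ker f = LinearMap.ker (Algebra.linearMap R S) := rfl
  rw [((Submodule.quotEquivOfEq _ _ hker).trans
    ((Algebra.linearMap R S).quotKerEquivOfSurjective hf)).length_eq]
  exact Module.length_eq_of_surjective (S := R) (R := S) (M := S) hf

/-- A point over which a maximal point lies flatly is maximal. -/
theorem eq_of_specializes_image {X Y : Scheme.{u}} (p : X ⟶ Y) [Flat p] (x : X)
    (hx : ∀ z : X, z ⤳ x → z = x) (y : Y) (hy : y ⤳ p x) : y = p x := by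
  obtain ⟨z, hzx, hz⟩ := Flat.generalizingMap p hy
  rw [← hz, hx z hzx]

/-- The maximal ideal of the stalk at a maximal point is contained in every prime. -/
theorem maximalIdeal_le_nilradical {Y : Scheme.{u}} (y : Y) (hy : ∀ z : Y, z ⤳ y → z = y) :
    maximalIdeal (Y.presheaf.stalk y) ≤ nilradical (Y.presheaf.stalk y) := by
  rw [nilradical_eq_sInf]
  refine le_sInf fun P hP => ?_
  have : P.IsPrime := hP
  have hspec : Y.fromSpecStalk y ⟨P, hP⟩ ⤳ y := by
    have : Y.fromSpecStalk y ⟨P, hP⟩ ∈ Set.range (Y.fromSpecStalk y) := ⟨_, rfl⟩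
    rwa [Scheme.range_fromSpecStalk] at this
  have heq := hy _ hspec
  have h := (Y.fromSpecStalk y).isEmbedding.injective
    (heq.trans (Scheme.fromSpecStalk_closedPoint).symm)
  exact (congrArg PrimeSpectrum.asIdeal h).ge

/-- Length at a maximal point of a flat base change, through a reduced closed subscheme of the base. -/
theorem length_eq_mul_pullback {X' X D : Scheme.{u}} (p : X' ⟶ X) [Flat p] (i : D ⟶ X)
    [IsClosedImmersion i] [IsReduced D] (z : (pullback p i : Scheme.{u}))
    (hx : ∀ w : X', w ⤳ pullback.fst p i z → w = pullback.fst p i z) :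
    Module.length (X'.presheaf.stalk (pullback.fst p i z)) (X'.presheaf.stalk (pullback.fst p i z)) =
      Module.length (X.presheaf.stalk (p (pullback.fst p i z)))
          (X.presheaf.stalk (p (pullback.fst p i z))) *
        Module.length ((pullback p i : Scheme.{u}).presheaf.stalk z)
          ((pullback p i : Scheme.{u}).presheaf.stalk z) := by
  rw [H9PB.length_self_flat p (pullback.fst p i z)]
  congr 1
  refine length_quotient_eq _ ((pullback.fst p i).stalkMap_surjective z) ?_
  rw [H23.GysinPb.ker_stalkMap_fst]
  have hpt := H23.GysinPb.apply_fst_eq p i z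
  have hmax : ∀ w : X, w ⤳ i (pullback.snd p i z) → w = i (pullback.snd p i z) := fun w hw => by
    rw [← hpt] at hw ⊢
    exact eq_of_specializes_image p _ hx w hw
  have hker : RingHom.ker (i.stalkMap (pullback.snd p i z)).hom =
      maximalIdeal (X.presheaf.stalk (i (pullback.snd p i z))) := by
    refine le_antisymm (le_maximalIdeal (RingHom.ker_ne_top _)) fun t ht => ?_
    exact IsReduced.eq_zero _ ((mem_nilradical.mp (maximalIdeal_le_nilradical _ hmax ht)).map _)
  rw [hker, H23.GysinPb.baseMap, CommRingCat.hom_comp, ← Ideal.map_map]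
  congr 1
  have : IsIso (X.presheaf.stalkSpecializes (specializes_of_eq hpt)) :=
    (TopCat.Presheaf.stalkCongr X.presheaf (.of_eq hpt)).isIso_inv
  exact IsLocalRing.map_maximalIdeal_of_surjective _
    ((ConcreteCategory.isIso_iff_bijective _).mp this).2

/-- The same, for any presentation of the base change. -/
theorem length_eq_mul_of_isPullback {X' X D P : Scheme.{u}} {p : X' ⟶ X} [Flat p] {i : D ⟶ X}
    [IsClosedImmersion i] [IsReduced D] {a : P ⟶ X'} {b : P ⟶ D} (h : IsPullback a b p i) (z : P)
    (hx : ∀ w : X', w ⤳ a z → w = a z) :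
    Module.length (X'.presheaf.stalk (a z)) (X'.presheaf.stalk (a z)) =
      Module.length (X.presheaf.stalk (p (a z))) (X.presheaf.stalk (p (a z))) *
        Module.length (P.presheaf.stalk z) (P.presheaf.stalk z) := by
  have ha : a = h.isoPullback.hom ≫ pullback.fst p i := h.isoPullback_hom_fst.symm
  have hz : a z = pullback.fst p i (h.isoPullback.hom z) := (congrArg (fun m : P ⟶ X' => m z) ha).trans (Scheme.Hom.comp_apply _ _ z)
  rw [hz] at hx ⊢
  rw [length_eq_mul_pullback p i _ hx]
  congr 1
  have hb := (ConcreteCategory.isIso_iff_bijective (h.isoPullback.hom.stalkMap z)).mp inferInstance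
  rw [← length_quotient_eq _ hb.2 ((RingHom.injective_iff_ker_eq_bot _).mp hb.1)]
  exact (Submodule.quotEquivOfEqBot ⊥ rfl).symm.length_eq

end Groth.Agent.H4FB
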