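import Mathlib
import Groth.Agent.H4FB.LengthMul
import Groth.Prelude.Def_FDesc
import Groth.Agent.H23.RedSub

/-!
The square of the reduced base of a field base change.
-/

set_option autoImplicit false
set_option backward.isDefEq.respectTransparency false
set_option backward.isDefEq.respectTransparency.types false

universe u

open AlgebraicGeometry CategoryTheory CategoryTheory.Limits IsLocalRing

namespace Groth.Agent.H4FB

variable {k k' k'' : Type u} [Field k] [Field k'] [Field k''] [Algebra k k'] [Algebra k' k'']
  {X : Scheme.{u}}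

theorem flat_bcπ (s : X ⟶ Spec (CommRingCat.of k')) : Flat (FBase.bcπ s k'') := by
  have : Flat (Spec.map (CommRingCat.ofHom (algebraMap k' k''))) := by
    rw [HasRingHomProperty.Spec_iff (P := @Flat)]
    exact RingHom.flat_algebraMap_iff.mpr inferInstance
  exact inferInstanceAs (Flat (pullback.fst s (Spec.map (CommRingCat.ofHom (algebraMap k' k'')))))

theorem isPullback_red (f : X ⟶ Spec (CommRingCat.of k)) :
    IsPullback
      (pullback.map ((FBase.bc f k').nilradical.subschemeι ≫ FBase.bcStr f k')
        (Spec.map (CommRingCat.ofHom (algebraMap k' k''))) (FBase.bcStr f k')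
        (Spec.map (CommRingCat.ofHom (algebraMap k' k''))) (FBase.bc f k').nilradical.subschemeι (𝟙 _) (𝟙 _)
        (Category.comp_id _) ((Category.comp_id _).trans (Category.id_comp _).symm) :
        FBase.bc ((FBase.bc f k').nilradical.subschemeι ≫ FBase.bcStr f k') k'' ⟶
          FBase.bc (FBase.bcStr f k') k'')
      (FBase.bcπ ((FBase.bc f k').nilradical.subschemeι ≫ FBase.bcStr f k') k'')
      (FBase.bcπ (FBase.bcStr f k') k'') (FBase.bc f k').nilradical.subschemeι := by
  set a := pullback.map ((FBase.bc f k').nilradical.subschemeι ≫ FBase.bcStr f k')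
    (Spec.map (CommRingCat.ofHom (algebraMap k' k''))) (FBase.bcStr f k')
    (Spec.map (CommRingCat.ofHom (algebraMap k' k''))) (FBase.bc f k').nilradical.subschemeι (𝟙 _) (𝟙 _)
    (Category.comp_id _) ((Category.comp_id _).trans (Category.id_comp _).symm) with ha
  have h1 : a ≫ pullback.fst _ _ = pullback.fst _ _ ≫ (FBase.bc f k').nilradical.subschemeι :=
    pullback.lift_fst _ _ _
  have h2 : a ≫ pullback.snd _ _ = pullback.snd _ _ :=
    (pullback.lift_snd _ _ _).trans (Category.comp_id _)
  refine (IsPullback.of_bot ?_ h1.symm (IsPullback.of_hasPullback (FBase.bcStr f k')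
    (Spec.map (CommRingCat.ofHom (algebraMap k' k''))))).flip
  rw [h2]
  exact IsPullback.of_hasPullback _ _

theorem length_eq_of_geometricallyReduced (f : X ⟶ Spec (CommRingCat.of k))
    [IsLocallyNoetherian (FBase.bc f k')]
    [GeometricallyReduced (Spec.map (CommRingCat.ofHom (algebraMap k' k'')))]
    (x'' : ↥(FBase.bc (FBase.bcStr f k') k''))
    (hx'' : ∀ z : ↥(FBase.bc (FBase.bcStr f k') k''), z ⤳ x'' → z = x'') :
    Module.length ((FBase.bc (FBase.bcStr f k') k'').presheaf.stalk x'')
        ((FBase.bc (FBase.bcStr f k') k'').presheaf.stalk x'') =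
      Module.length ((FBase.bc f k').presheaf.stalk (FBase.bcπ (FBase.bcStr f k') k'' x''))
        ((FBase.bc f k').presheaf.stalk (FBase.bcπ (FBase.bcStr f k') k'' x'')) := by
  have : Flat (FBase.bcπ (FBase.bcStr f k') k'') := flat_bcπ _
  have hsq := isPullback_red (k' := k') (k'' := k'') f
  have : Surjective (FBase.bc f k').nilradical.subschemeι := ⟨fun y => by
    have : y ∈ Set.range (FBase.bc f k').nilradical.subschemeι := by
      rw [Scheme.IdealSheafData.range_subschemeι, Scheme.support_nilradical]
      trivial
    exact this⟩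
  have hs := MorphismProperty.of_isPullback (P := @Surjective) hsq.flip this
  obtain ⟨z, rfl⟩ := hs.surj x''
  have : IsReduced (FBase.bc f k').nilradical.subscheme := H23.RedSub.isReduced_nilradical _
  refine (length_eq_mul_of_isPullback hsq z hx'').trans ?_
  have : IsReduced (FBase.bc f k').nilradical.subscheme := H23.RedSub.isReduced_nilradical _
  have : IsLocallyNoetherian (FBase.bc f k').nilradical.subscheme :=
    LocallyOfFiniteType.isLocallyNoetherian (FBase.bc f k').nilradical.subschemeι
  have : Flat (Spec.map (CommRingCat.ofHom (algebraMap k' k''))) := by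
    rw [HasRingHomProperty.Spec_iff (P := @Flat)]
    exact RingHom.flat_algebraMap_iff.mpr inferInstance
  have hred : IsReduced (FBase.bc ((FBase.bc f k').nilradical.subschemeι ≫ FBase.bcStr f k') k'') :=
    inferInstanceAs (IsReduced (pullback ((FBase.bc f k').nilradical.subschemeι ≫ FBase.bcStr f k')
      (Spec.map (CommRingCat.ofHom (algebraMap k' k'')))))
  set P := FBase.bc ((FBase.bc f k').nilradical.subschemeι ≫ FBase.bcStr f k') k''
  have hz : ∀ w : P, w ⤳ z → w = z := fun w hw => by
    have hci := MorphismProperty.of_isPullback (P := @IsClosedImmersion) hsq.flip inferInstance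
    exact hci.base_closed.injective (hx'' _ (hw.map (Scheme.Hom.continuous _)))
  have hf : IsField (P.presheaf.stalk z) :=
    IsLocalRing.isField_iff_maximalIdeal_eq.mpr (le_bot_iff.mp fun t ht =>
      (IsReduced.eq_zero t (mem_nilradical.mp (maximalIdeal_le_nilradical z hz ht))).symm ▸ zero_mem _)
  let := hf.toField
  have h1 : Module.length (P.presheaf.stalk z) (P.presheaf.stalk z) = 1 :=
    Module.length_eq_one_iff.mpr inferInstance
  exact (congrArg (fun t => _ * t) h1).trans (mul_one _)

end Groth.Agent.H4FB
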